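import Groth.Agent.EtFound.Descent
import Mathlib.AlgebraicGeometry.Morphisms.LocalFlatDescent

/-! Properties which are local on the target for the etale topology. -/

universe u

open CategoryTheory Limits MorphismProperty AlgebraicGeometry

namespace Groth.Agent.GalTw

set_option backward.isDefEq.respectTransparency.types false

theorem of_etale_locally {P : MorphismProperty Scheme.{u}} [IsZariskiLocalAtTarget P] [P.IsStableUnderBaseChange]
    [P.DescendsAlong (@Surjective ⊓ @Flat ⊓ @QuasiCompact)] {X S : Scheme.{u}} (p : X ⟶ S)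
    (h : ∀ s : S, ∃ (S' : Scheme.{u}) (f : S' ⟶ S), Etale f ∧ s ∈ Set.range f.base ∧ P (pullback.snd p f)) :
    P p := by
  have key : ∀ s : S, ∃ U : S.Opens, s ∈ U ∧ P (p ∣_ U) := by
    intro s
    obtain ⟨S', f, hf, ⟨x, hx⟩, hP⟩ := h s
    obtain ⟨A, hA, hsA, -⟩ := exists_isAffineOpen_mem_and_subset (U := ⊤) (x := s) (by trivial)
    obtain ⟨W, hW, hxW, hWA⟩ := exists_isAffineOpen_mem_and_subset (U := f ⁻¹ᵁ A) (x := x)
      (by show f.base x ∈ A; rw [hx]; exact hsA)
    let U : S.Opens := ⟨f.base '' (W : Set S'), f.isOpenMap _ W.2⟩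
    have hUA : U ≤ A := by
      rintro _ ⟨w, hw, rfl⟩
      exact hWA hw
    let g : (W : Scheme.{u}) ⟶ (U : Scheme.{u}) := IsOpenImmersion.lift U.ι (W.ι ≫ f) (by
      rw [Scheme.Opens.range_ι]
      rintro _ ⟨w, rfl⟩
      exact ⟨w.1, w.2, rfl⟩)
    have hg : g ≫ U.ι = W.ι ≫ f := IsOpenImmersion.lift_fac _ _ _
    have : Etale (g ≫ U.ι) := by rw [hg]; infer_instance
    have : Etale g := Etale.of_comp g U.ι
    have : Surjective g := ⟨fun u => by
      obtain ⟨w, hw, hwu⟩ := u.2
      refine ⟨⟨w, hw⟩, U.ι.isOpenEmbedding.injective ?_⟩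
      rw [← Scheme.Hom.comp_apply, hg]
      exact hwu⟩
    have : IsAffine (W : Scheme.{u}) := hW
    have : CompactSpace (W : Scheme.{u}) := inferInstance
    have : IsAffine (A : Scheme.{u}) := hA
    have : (U : Scheme.{u}).IsSeparated := ⟨by
      rw [← terminal.comp_from (S.homOfLE hUA)]
      infer_instance⟩
    have : QuasiCompact g := QuasiCompact.of_comp g (terminal.from _)
    refine ⟨U, ⟨x, hxW, hx⟩, ?_⟩
    refine MorphismProperty.of_pullback_fst_of_descendsAlong (P := P)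
      (Q := (@Surjective ⊓ @Flat ⊓ @QuasiCompact : MorphismProperty Scheme.{u})) (f := g)
      ⟨⟨inferInstance, inferInstance⟩, inferInstance⟩ ?_
    -- the base change of `p ∣_ U` along `g` is a restriction of the base change along `f`
    have sq1 : IsPullback (pullback.snd g (p ∣_ U) ≫ (p ⁻¹ᵁ U).ι) (pullback.fst g (p ∣_ U)) p (g ≫ U.ι) :=
      (IsPullback.of_hasPullback g (p ∣_ U)).flip.paste_horiz (isPullback_morphismRestrict p U).flip
    rw [hg] at sq1
    let φ : pullback g (p ∣_ U) ⟶ pullback p f :=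
      pullback.lift (pullback.snd g (p ∣_ U) ≫ (p ⁻¹ᵁ U).ι) (pullback.fst g (p ∣_ U) ≫ W.ι)
        (sq1.w.trans (Category.assoc _ _ _).symm)
    have hφ₁ : φ ≫ pullback.fst p f = pullback.snd g (p ∣_ U) ≫ (p ⁻¹ᵁ U).ι := pullback.lift_fst _ _ _
    have hφ₂ : φ ≫ pullback.snd p f = pullback.fst g (p ∣_ U) ≫ W.ι := pullback.lift_snd _ _ _
    have sq2 : IsPullback φ (pullback.fst g (p ∣_ U)) (pullback.snd p f) W.ι :=
      IsPullback.of_right (by rw [hφ₁]; exact sq1) hφ₂ (IsPullback.of_hasPullback p f)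
    exact MorphismProperty.of_isPullback sq2 hP
  choose U hU hP using key
  exact IsZariskiLocalAtTarget.of_iSup_eq_top U (top_unique fun s _ => TopologicalSpace.Opens.mem_iSup.2 ⟨s, hU s⟩) hP

end Groth.Agent.GalTw
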