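import Groth.Prelude.Def_TwC
import Groth.Agent.GalTw.EtLocal
import Mathlib.AlgebraicGeometry.Limits
import Mathlib.AlgebraicGeometry.Morphisms.Separated
import Mathlib.AlgebraicGeometry.Morphisms.Etale

/-! Constant and twisted constant schemes: separatedness, etaleness, sections over connected bases. -/

universe u

open CategoryTheory Limits MorphismProperty AlgebraicGeometry Opposite

namespace Groth.Agent.GalTw

set_option backward.isDefEq.respectTransparency.types false

variable {U : Scheme.{u}} {I : Type u}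

/-- The constant `U`-scheme as a scheme. -/
noncomputable abbrev cst (U : Scheme.{u}) (I : Type u) : Scheme.{u} := ∐ fun _ : I => U

/-- Its structure map. -/
noncomputable abbrev cstHom (U : Scheme.{u}) (I : Type u) : cst U I ⟶ U := Sigma.desc fun _ : I => 𝟙 U

instance etale_cstHom : Etale (cstHom U I) :=
  IsZariskiLocalAtSource.sigmaDesc (P := @Etale) fun _ => inferInstance

theorem exists_eq_ι (z : cst U I) : ∃ (i : I) (y : U), Sigma.ι (fun _ : I => U) i y = z := by
  obtain ⟨⟨i, y⟩, hy⟩ := (sigmaMk fun _ : I => U).surjective z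
  exact ⟨i, y, by rw [← sigmaMk_mk]; exact hy⟩

theorem ι_inj {i j : I} {y y' : U} (h : Sigma.ι (fun _ : I => U) i y = Sigma.ι (fun _ : I => U) j y') : i = j := by
  have h2 := (sigmaMk fun _ : I => U).injective (a₁ := ⟨i, y⟩) (a₂ := ⟨j, y'⟩) (by
    rw [sigmaMk_mk, sigmaMk_mk]; exact h)
  exact (Sigma.mk.inj h2).1

theorem ι_cstHom (i : I) : Sigma.ι (fun _ : I => U) i ≫ cstHom U I = 𝟙 U := Sigma.ι_desc _ _

theorem isClopen_range_ι (i : I) : IsClopen (Set.range (Sigma.ι (fun _ : I => U) i).base) := by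
  refine ⟨⟨?_⟩, (Sigma.ι (fun _ : I => U) i).isOpenEmbedding.isOpen_range⟩
  rw [isOpen_iff_forall_mem_open]
  intro z hz
  obtain ⟨j, y, rfl⟩ := exists_eq_ι z
  refine ⟨Set.range (Sigma.ι (fun _ : I => U) j).base, ?_,
    (Sigma.ι (fun _ : I => U) j).isOpenEmbedding.isOpen_range, ⟨y, rfl⟩⟩
  rintro _ ⟨y', rfl⟩ ⟨y'', hy''⟩
  exact hz ⟨y, by rw [ι_inj hy'']⟩

instance isSeparated_cstHom : IsSeparated (cstHom U I) := by
  refine ⟨?_⟩
  refine .of_isPreimmersion _ ?_
  set p := cstHom U I
  rw [← isOpen_compl_iff, isOpen_iff_forall_mem_open]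
  intro z hz
  obtain ⟨i, y₁, h₁⟩ := exists_eq_ι (pullback.fst p p z)
  obtain ⟨j, y₂, h₂⟩ := exists_eq_ι (pullback.snd p p z)
  have hy : y₁ = y₂ := by
    have h := congrArg (fun m : pullback p p ⟶ U => m z) (pullback.condition (f := p) (g := p))
    simp only [Scheme.Hom.comp_apply] at h
    rw [← h₁, ← h₂, ← Scheme.Hom.comp_apply, ← Scheme.Hom.comp_apply, ι_cstHom, ι_cstHom] at h
    exact h
  subst hy
  let O : (pullback p p).Opens :=
    (pullback.fst p p ⁻¹ᵁ (Sigma.ι (fun _ : I => U) i).opensRange) ⊓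
      (pullback.snd p p ⁻¹ᵁ (Sigma.ι (fun _ : I => U) j).opensRange)
  by_cases hij : i = j
  · subst hij
    exfalso
    apply hz
    let a : (O : Scheme.{u}) ⟶ U := IsOpenImmersion.lift (Sigma.ι (fun _ : I => U) i) (O.ι ≫ pullback.fst p p)
      (by rintro _ ⟨w, rfl⟩; exact w.2.1)
    let b : (O : Scheme.{u}) ⟶ U := IsOpenImmersion.lift (Sigma.ι (fun _ : I => U) i) (O.ι ≫ pullback.snd p p)
      (by rintro _ ⟨w, rfl⟩; exact w.2.2)
    have ha : a ≫ Sigma.ι (fun _ : I => U) i = O.ι ≫ pullback.fst p p := IsOpenImmersion.lift_fac _ _ _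
    have hb : b ≫ Sigma.ι (fun _ : I => U) i = O.ι ≫ pullback.snd p p := IsOpenImmersion.lift_fac _ _ _
    have hab : a = b := by
      have h := congrArg (fun m => O.ι ≫ m) (pullback.condition (f := p) (g := p))
      simp only [← Category.assoc] at h
      rw [← ha, ← hb, Category.assoc, Category.assoc, ι_cstHom, Category.comp_id, Category.comp_id] at h
      exact h
    have hfac : (O.ι ≫ pullback.fst p p) ≫ pullback.diagonal p = O.ι := by
      apply pullback.hom_ext
      · simp
      · rw [Category.assoc, Category.assoc, pullback.diagonal_snd, Category.comp_id, ← ha, hab, hb]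
    have hzO : z ∈ O := ⟨⟨y₁, h₁⟩, ⟨y₁, h₂⟩⟩
    refine ⟨pullback.fst p p z, ?_⟩
    exact congrArg (fun m : (O : Scheme.{u}) ⟶ pullback p p => m ⟨z, hzO⟩) hfac
  · refine ⟨O, ?_, O.2, ⟨⟨y₁, h₁⟩, ⟨y₁, h₂⟩⟩⟩
    rintro _ ⟨⟨u, hu⟩, ⟨v, hv⟩⟩ ⟨w, rfl⟩
    rw [← Scheme.Hom.comp_apply, pullback.diagonal_fst] at hu
    rw [← Scheme.Hom.comp_apply, pullback.diagonal_snd] at hv
    exact hij (ι_inj (hu.trans hv.symm))

/-- A map from a connected scheme to a constant scheme lands in one copy. -/
theorem exists_factor_copy {T : Scheme.{u}} [ConnectedSpace T] (c : T ⟶ cst U I) :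
    ∃ i : I, (c ≫ cstHom U I) ≫ Sigma.ι (fun _ : I => U) i = c := by
  obtain ⟨i, y, hy⟩ := exists_eq_ι (c (Classical.arbitrary T))
  have huniv : c.base ⁻¹' Set.range (Sigma.ι (fun _ : I => U) i).base = Set.univ :=
    ((isClopen_range_ι i).preimage c.continuous).eq_univ ⟨_, y, hy⟩
  let a : T ⟶ U := IsOpenImmersion.lift (Sigma.ι (fun _ : I => U) i) c (by
    rintro _ ⟨t, rfl⟩
    exact Set.eq_univ_iff_forall.1 huniv t)
  have ha : a ≫ Sigma.ι (fun _ : I => U) i = c := IsOpenImmersion.lift_fac _ _ _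
  refine ⟨i, ?_⟩
  conv_rhs => rw [← ha]
  rw [← ha]
  simp only [Category.assoc]
  rw [← Category.assoc (Sigma.ι (fun _ : I => U) i) (cstHom U I), ι_cstHom, Category.id_comp]

variable {S : Scheme.{u}} {X : Over S}

/-- Local charts of a twisted constant scheme. -/
theorem exists_chart (hX : TwC.IsTwConst TwC.Topology.etale X) (s : S) :
    ∃ (S' : Scheme.{u}) (f : S' ⟶ S) (I : Type u) (e : pullback X.hom f ≅ cst S' I),
      Etale f ∧ s ∈ Set.range f.base ∧ e.hom ≫ cstHom S' I = pullback.snd X.hom f := by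
  obtain ⟨S', f, hf, hs, I, ⟨e⟩⟩ := hX s
  exact ⟨S', f, I, (CategoryTheory.Over.forget _).mapIso e, hf, hs, CategoryTheory.Over.w e.hom⟩

theorem isSeparated_of_isTwConst (hX : TwC.IsTwConst TwC.Topology.etale X) : IsSeparated X.hom := by
  have := EtFound.fpqc_isSeparated.{u}
  refine of_etale_locally (P := @IsSeparated) X.hom fun s => ?_
  obtain ⟨S', f, I, e, hf, hs, he⟩ := exists_chart hX s
  exact ⟨S', f, hf, hs, by rw [← he]; infer_instance⟩

theorem etale_of_isTwConst (hX : TwC.IsTwConst TwC.Topology.etale X) : Etale X.hom := by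
  refine of_etale_locally (P := @Etale) X.hom fun s => ?_
  obtain ⟨S', f, I, e, hf, hs, he⟩ := exists_chart hX s
  exact ⟨S', f, hf, hs, by rw [← he]; infer_instance⟩

/-- Two points with values in the same connected scheme that agree at one point are equal. -/
theorem eq_of_agree [IsSeparated X.hom] [Etale X.hom] {T : Scheme.{u}} [PreconnectedSpace T]
    (a b : T ⟶ X.left) (h : a ≫ X.hom = b ≫ X.hom) {T₀ : Scheme.{u}} [Nonempty T₀] (g : T₀ ⟶ T)
    (hab : g ≫ a = g ≫ b) : a = b := by
  let δ := pullback.diagonal X.hom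
  let ab : T ⟶ pullback X.hom X.hom := pullback.lift a b h
  have : IsClosedImmersion δ := inferInstance
  have : IsOpenImmersion δ := inferInstance
  have hcl : IsClopen (ab.base ⁻¹' Set.range δ.base) :=
    IsClopen.preimage ⟨δ.isClosedEmbedding.isClosed_range, δ.isOpenEmbedding.isOpen_range⟩ ab.continuous
  have hg : g ≫ ab = (g ≫ a) ≫ δ := by
    apply pullback.hom_ext
    · rw [Category.assoc, Category.assoc, pullback.diagonal_fst]
      erw [pullback.lift_fst, Category.comp_id]
    · rw [Category.assoc, Category.assoc, pullback.diagonal_snd]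
      erw [pullback.lift_snd, Category.comp_id]
      exact hab.symm
  have huniv := hcl.eq_univ ⟨g (Classical.arbitrary T₀), (g ≫ a) (Classical.arbitrary T₀), by
    rw [← Scheme.Hom.comp_apply, ← hg]; rfl⟩
  let l : T ⟶ X.left := IsOpenImmersion.lift δ ab (by
    rintro _ ⟨t, rfl⟩
    exact Set.eq_univ_iff_forall.1 huniv t)
  have hl : l ≫ δ = ab := IsOpenImmersion.lift_fac _ _ _
  have h1 := congrArg (fun m => m ≫ pullback.fst X.hom X.hom) hl
  have h2 := congrArg (fun m => m ≫ pullback.snd X.hom X.hom) hl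
  rw [Category.assoc] at h1 h2
  erw [pullback.diagonal_fst, Category.comp_id, pullback.lift_fst] at h1
  erw [pullback.diagonal_snd, Category.comp_id, pullback.lift_snd] at h2
  rw [← h1, ← h2]

end Groth.Agent.GalTw
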