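import Groth.Agent.GalTw.Basic
import Groth.Agent.EtStalk.Normal
import Mathlib.AlgebraicGeometry.ValuativeCriterion
import Mathlib.RingTheory.Valuation.ValuationRing
import Mathlib.RingTheory.Flat.Localization
import Mathlib.RingTheory.Localization.BaseChange

/-! Twisted constant schemes satisfy the valuative criterion. -/

universe u

open CategoryTheory Limits AlgebraicGeometry TensorProduct

namespace Groth.Agent.GalTw

set_option backward.isDefEq.respectTransparency.types false

variable {S : Scheme.{u}} {X : Over S}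

/-- Maps to a separated scheme agreeing after an injective ring map are equal. -/
theorem eq_of_agree_injective [IsSeparated X.hom] {A B : CommRingCat.{u}} (φ : A ⟶ B) (hφ : Function.Injective φ)
    (a b : Spec A ⟶ X.left) (h : a ≫ X.hom = b ≫ X.hom) (hab : Spec.map φ ≫ a = Spec.map φ ≫ b) : a = b := by
  let δ := pullback.diagonal X.hom
  let ab : Spec A ⟶ pullback X.hom X.hom := pullback.lift a b h
  let e := pullback.snd δ ab
  have : IsClosedImmersion e := inferInstance
  have : IsAffine (pullback δ ab) := isAffine_of_isAffineHom e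
  let l : Spec B ⟶ pullback δ ab := pullback.lift (Spec.map φ ≫ a) (Spec.map φ) (by
    apply pullback.hom_ext
    · rw [Category.assoc, Category.assoc, pullback.diagonal_fst, Category.comp_id]
      exact (congrArg (fun m => Spec.map φ ≫ m) (pullback.lift_fst a b h)).symm
    · rw [Category.assoc, Category.assoc, pullback.diagonal_snd, Category.comp_id]
      exact hab.trans (congrArg (fun m => Spec.map φ ≫ m) (pullback.lift_snd a b h)).symm)
  have hl : l ≫ e = Spec.map φ := pullback.lift_snd _ _ _
  obtain ⟨hsurj⟩ : Nonempty (Function.Surjective e.appTop) := ⟨e.app_surjective ⊤ (isAffineOpen_top _)⟩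
  have hinj : Function.Injective e.appTop := by
    have h1 : Function.Injective (Spec.map φ).appTop := by
      have h2 := Scheme.ΓSpecIso_naturality φ
      intro x y hxy
      have h3 := congrArg (fun z => (Scheme.ΓSpecIso B).hom z) hxy
      simp only [← CommRingCat.comp_apply, h2] at h3
      exact (ConcreteCategory.bijective_of_isIso (Scheme.ΓSpecIso A).hom).1 (hφ h3)
    intro x y hxy
    apply h1
    rw [← hl, Scheme.Hom.comp_appTop, CommRingCat.comp_apply, CommRingCat.comp_apply, hxy]
  have : IsIso e.appTop := (ConcreteCategory.isIso_iff_bijective _).2 ⟨hinj, hsurj⟩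
  have : IsIso e := by
    have h3 : IsIso (e ≫ (Spec A).isoSpec.hom) := by
      rw [← Scheme.isoSpec_hom_naturality]; infer_instance
    exact IsIso.of_isIso_comp_right e (Spec A).isoSpec.hom
  have hw : inv e ≫ pullback.fst δ ab ≫ δ = ab := by
    rw [pullback.condition, IsIso.inv_hom_id_assoc]
  have h1 := congrArg (fun m => m ≫ pullback.fst X.hom X.hom) hw
  have h2 := congrArg (fun m => m ≫ pullback.snd X.hom X.hom) hw
  simp only [Category.assoc] at h1 h2
  erw [pullback.diagonal_fst, Category.comp_id, pullback.lift_fst] at h1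
  erw [pullback.diagonal_snd, Category.comp_id, pullback.lift_snd] at h2
  rw [← h1, ← h2]

set_option maxHeartbeats 3000000 in
theorem existence_of_isTwConst (hX : TwC.IsTwConst TwC.Topology.etale X) : ValuativeCriterion.Existence X.hom := by
  intro sq
  have := isSeparated_of_isTwConst hX
  let R := sq.R
  let K := sq.K
  let i₁ := sq.i₁
  let i₂ := sq.i₂
  let jK : Spec (CommRingCat.of K) ⟶ Spec (CommRingCat.of R) := Spec.map (CommRingCat.ofHom (algebraMap R K))
  have hw : i₁ ≫ X.hom = jK ≫ i₂ := sq.commSq.w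
  let m := IsLocalRing.closedPoint R
  obtain ⟨S', f, I, e, hf, ⟨x', hx'⟩, he⟩ := exists_chart hX (i₂ m)
  obtain ⟨z, hz₁, hz₂⟩ := Scheme.Pullback.exists_preimage_pullback (f := i₂) (g := f) m x' hx'.symm
  obtain ⟨A, hA, hzA, -⟩ := exists_isAffineOpen_mem_and_subset (U := ⊤) (x := z) (by trivial)
  let π₀ : Spec Γ(pullback i₂ f, A) ⟶ Spec (CommRingCat.of R) := hA.fromSpec ≫ pullback.fst i₂ f
  obtain ⟨φ, hφ⟩ : ∃ φ, Spec.map φ = π₀ := ⟨Spec.preimage π₀, Spec.map_preimage π₀⟩
  let _ : Algebra R Γ(pullback i₂ f, A) := φ.hom.toAlgebra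
  have : Etale (Spec.map φ) := hφ ▸ (inferInstanceAs (Etale (hA.fromSpec ≫ pullback.fst i₂ f)))
  have : Algebra.Etale R Γ(pullback i₂ f, A) := by
    rw [← RingHom.etale_algebraMap]
    exact (HasRingHomProperty.Spec_iff (P := @Etale)).1 ‹Etale (Spec.map φ)›
  let q := hA.primeIdealOf ⟨z, hzA⟩
  let R' := Localization.AtPrime q.asIdeal
  have hWE := Groth.Agent.WLocalLib.weaklyEtale_localization q.asIdeal.primeCompl R'
  have : Algebra.WeaklyEtale R R' := Algebra.WeaklyEtale.trans R Γ(pullback i₂ f, A) R'
  obtain ⟨hdom, -⟩ := Groth.Agent.EtStalk.normal_of_weaklyEtale_local R R'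
  have : Module.Flat R R' := Algebra.WeaklyEtale.flat
  have hq : q.asIdeal.comap (algebraMap R Γ(pullback i₂ f, A)) = IsLocalRing.maximalIdeal R := by
    have h : (Spec.map φ) q = m := by
      rw [hφ, Scheme.Hom.comp_apply, hA.fromSpec_primeIdealOf ⟨z, hzA⟩]
      exact hz₁
    exact congrArg PrimeSpectrum.asIdeal h
  have : IsLocalHom (algebraMap R R') := by
    refine ((IsLocalRing.local_hom_TFAE (algebraMap R R')).out 0 4).2 ?_
    rw [IsScalarTower.algebraMap_eq R Γ(pullback i₂ f, A) R', ← Ideal.comap_comap]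
    show Ideal.comap _ (Ideal.under _ (IsLocalRing.maximalIdeal R')) = _
    rw [Localization.AtPrime.under_maximalIdeal, hq]
  have : Module.FaithfullyFlat R R' := Module.FaithfullyFlat.of_flat_of_isLocalHom
  let V := Spec (CommRingCat.of R')
  let τ : V ⟶ pullback i₂ f := Spec.map (CommRingCat.ofHom (algebraMap Γ(pullback i₂ f, A) R')) ≫ hA.fromSpec
  let π : V ⟶ Spec (CommRingCat.of R) := Spec.map (CommRingCat.ofHom (algebraMap R R'))
  let g : V ⟶ S' := τ ≫ pullback.snd i₂ f
  have hπ : τ ≫ pullback.fst i₂ f = π := by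
    rw [Category.assoc]
    show _ ≫ π₀ = _
    rw [← hφ, ← Spec.map_comp]
    rfl
  have hgf : g ≫ f = π ≫ i₂ := by
    show (τ ≫ pullback.snd i₂ f) ≫ f = π ≫ i₂
    rw [← hπ, Category.assoc τ, Category.assoc τ, pullback.condition]
  -- the generic fibre of `V`
  let B := R' ⊗[R] K
  let M := Algebra.algebraMapSubmonoid R' (nonZeroDivisors R)
  have : IsLocalization M B := inferInstance
  have hinjR : Function.Injective (algebraMap R R') := FaithfulSMul.algebraMap_injective R R'
  have hM : M ≤ nonZeroDivisors R' := by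
    rintro _ ⟨r, hr, rfl⟩
    exact mem_nonZeroDivisors_of_ne_zero fun h => nonZeroDivisors.ne_zero hr (hinjR (h.trans (map_zero _).symm))
  have : IsDomain B := IsLocalization.isDomain_of_le_nonZeroDivisors _ hM
  let jV : Spec (CommRingCat.of B) ⟶ V := Spec.map (CommRingCat.ofHom (algebraMap R' B))
  let pK : Spec (CommRingCat.of B) ⟶ Spec (CommRingCat.of K) :=
    Spec.map (CommRingCat.ofHom (Algebra.TensorProduct.includeRight (R := R) (A := R') (B := K)).toRingHom)
  have hsq : pK ≫ jK = jV ≫ π := by
    simp only [pK, jK, jV, π, ← Spec.map_comp]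
    congr 1
    ext r
    show (1 : R') ⊗ₜ[R] algebraMap R K r = algebraMap R R' r ⊗ₜ[R] (1 : K)
    rw [Algebra.algebraMap_eq_smul_one, Algebra.algebraMap_eq_smul_one, TensorProduct.tmul_smul, TensorProduct.smul_tmul']
  let c : Spec (CommRingCat.of B) ⟶ pullback X.hom f := pullback.lift (pK ≫ i₁) (jV ≫ g)
    (by rw [Category.assoc, hw, ← Category.assoc, hsq, Category.assoc, Category.assoc, hgf])
  have : IrreducibleSpace (Spec (CommRingCat.of B)) := PrimeSpectrum.irreducibleSpace
  have : ConnectedSpace (Spec (CommRingCat.of B)) := inferInstance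
  obtain ⟨i, hi⟩ := exists_factor_copy (c ≫ e.hom)
  rw [Category.assoc c e.hom (cstHom S' I), he] at hi
  erw [pullback.lift_snd] at hi
  let l : V ⟶ X.left := g ≫ Sigma.ι (fun _ : I => S') i ≫ e.inv ≫ pullback.fst X.hom f
  have hl₁ : l ≫ X.hom = π ≫ i₂ := by
    have h1 : (e.inv ≫ pullback.fst X.hom f) ≫ X.hom = cstHom S' I ≫ f := by
      rw [Category.assoc, pullback.condition, ← Category.assoc, (Iso.inv_comp_eq e).2 he.symm]
    simp only [l, Category.assoc] at h1 ⊢
    rw [h1, ← Category.assoc (Sigma.ι (fun _ : I => S') i), ι_cstHom, Category.id_comp, hgf]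
  have hl₂ : jV ≫ l = pK ≫ i₁ := by
    have h1 := congrArg (fun t => t ≫ e.inv ≫ pullback.fst X.hom f) hi
    simp only [Category.assoc, Iso.hom_inv_id_assoc] at h1
    simp only [l, Category.assoc]
    rw [h1]
    exact pullback.lift_fst _ _ _
  -- the two pullbacks to `V ×_R V` agree
  have hdesc : ∀ {Z : Scheme.{u}} (g₁ g₂ : Z ⟶ V), g₁ ≫ π = g₂ ≫ π → g₁ ≫ l = g₂ ≫ l := by
    suffices h : Spec.map (CommRingCat.ofHom (Algebra.TensorProduct.includeLeftRingHom : R' →+* R' ⊗[R] R')) ≫ l =
        Spec.map (CommRingCat.ofHom ((Algebra.TensorProduct.includeRight : R' →ₐ[R] R' ⊗[R] R').toRingHom)) ≫ l by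
      intro Z g₁ g₂ hg
      let t := pullback.lift g₁ g₂ hg ≫ (pullbackSpecIso R R' R').hom
      have e1 : t ≫ Spec.map (CommRingCat.ofHom (Algebra.TensorProduct.includeLeftRingHom : R' →+* R' ⊗[R] R')) = g₁ := by
        rw [Category.assoc, pullbackSpecIso_hom_fst]
        exact pullback.lift_fst _ _ _
      have e2 : t ≫ Spec.map (CommRingCat.ofHom ((Algebra.TensorProduct.includeRight : R' →ₐ[R] R' ⊗[R] R').toRingHom)) = g₂ := by
        rw [Category.assoc, show (pullbackSpecIso R R' R').hom ≫ Spec.map (CommRingCat.ofHom ((Algebra.TensorProduct.includeRight : R' →ₐ[R] R' ⊗[R] R').toRingHom)) = pullback.snd _ _ from pullbackSpecIso_hom_snd R R' R']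
        exact pullback.lift_snd _ _ _
      exact (congrArg (· ≫ l) e1).symm.trans ((Category.assoc _ _ _).trans
        ((congrArg (t ≫ ·) h).trans ((Category.assoc _ _ _).symm.trans (congrArg (· ≫ l) e2))))
    let W := R' ⊗[R] R'
    let BK := W ⊗[R] K
    let ψ : W →+* BK := Algebra.TensorProduct.includeLeftRingHom
    have hψ : Function.Injective ψ :=
      Algebra.TensorProduct.includeLeft_injective (S := R) (IsFractionRing.injective R K)
    refine eq_of_agree_injective (A := CommRingCat.of W) (B := CommRingCat.of BK) (CommRingCat.ofHom ψ) hψ _ _ ?_ ?_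
    · rw [Category.assoc (Spec.map _) l, Category.assoc (Spec.map _) l, hl₁, ← Category.assoc, ← Category.assoc]
      congr 1
      simp only [π, ← Spec.map_comp]
      congr 1
      ext r
      show algebraMap R R' r ⊗ₜ[R] (1 : R') = (1 : R') ⊗ₜ[R] algebraMap R R' r
      rw [Algebra.algebraMap_eq_smul_one, TensorProduct.tmul_smul, TensorProduct.smul_tmul']
    · let ρ₁ : B →+* BK := (Algebra.TensorProduct.map (Algebra.TensorProduct.includeLeft : R' →ₐ[R] W) (AlgHom.id R K)).toRingHom
      let ρ₂ : B →+* BK := (Algebra.TensorProduct.map (Algebra.TensorProduct.includeRight : R' →ₐ[R] W) (AlgHom.id R K)).toRingHom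
      have hsq₁ : Spec.map (CommRingCat.ofHom ψ) ≫
          Spec.map (CommRingCat.ofHom (Algebra.TensorProduct.includeLeftRingHom : R' →+* W)) =
          Spec.map (CommRingCat.ofHom (R := B) (S := BK) ρ₁) ≫ jV := by
        simp only [jV, ← Spec.map_comp]
        congr 1
      have hsq₂ : Spec.map (CommRingCat.ofHom ψ) ≫
          Spec.map (CommRingCat.ofHom ((Algebra.TensorProduct.includeRight : R' →ₐ[R] W).toRingHom)) =
          Spec.map (CommRingCat.ofHom (R := B) (S := BK) ρ₂) ≫ jV := by
        simp only [jV, ← Spec.map_comp]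
        congr 1
      have hρ : Spec.map (CommRingCat.ofHom (R := B) (S := BK) ρ₁) ≫ pK = Spec.map (CommRingCat.ofHom (R := B) (S := BK) ρ₂) ≫ pK := by
        simp only [pK, ← Spec.map_comp]
        congr 1
      exact ((Category.assoc _ _ _).symm.trans ((congrArg (· ≫ l) hsq₁).trans ((Category.assoc _ _ _).trans
        (congrArg (_ ≫ ·) hl₂)))).trans (((Category.assoc _ _ _).symm.trans ((congrArg (· ≫ i₁) hρ).trans
        (Category.assoc _ _ _))).trans ((Category.assoc _ _ _).symm.trans ((congrArg (· ≫ l) hsq₂).trans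
        ((Category.assoc _ _ _).trans (congrArg (_ ≫ ·) hl₂)))).symm)
  have : Flat π := by
    rw [HasRingHomProperty.Spec_iff (P := @Flat)]
    exact RingHom.flat_algebraMap_iff.2 inferInstance
  have : Surjective π := ⟨PrimeSpectrum.comap_surjective_of_faithfullyFlat⟩
  have hs : EffectiveEpi π := inferInstance
  let σ := EffectiveEpi.desc π l fun g₁ g₂ h => hdesc g₁ g₂ h
  have hσ : π ≫ σ = l := EffectiveEpi.fac _ _ _
  refine ⟨⟨⟨σ, ?_, ?_⟩⟩⟩
  · show jK ≫ σ = i₁
    have : Module.Flat R K := IsLocalization.flat K (nonZeroDivisors R)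
    have hBK : Function.Injective (Algebra.TensorProduct.includeRight (R := R) (A := R') (B := K)) :=
      Algebra.TensorProduct.includeRight_injective hinjR
    have : Nonempty (Spec (CommRingCat.of B)) := inferInstance
    refine eq_of_agree_injective (CommRingCat.ofHom (Algebra.TensorProduct.includeRight (R := R) (A := R') (B := K)).toRingHom) hBK _ _ ?_ ?_
    · rw [Category.assoc, hw]
      congr 1
      apply (cancel_epi π).1
      rw [← Category.assoc, hσ, hl₁]
    · show pK ≫ jK ≫ σ = pK ≫ i₁
      rw [← Category.assoc, hsq, Category.assoc, hσ, hl₂]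
  · apply (cancel_epi π).1
    rw [← Category.assoc, hσ, hl₁]

theorem valuativeCriterion_of_isTwConst (hX : TwC.IsTwConst TwC.Topology.etale X) : ValuativeCriterion X.hom := by
  have := isSeparated_of_isTwConst hX
  rw [ValuativeCriterion.iff]
  exact ⟨existence_of_isTwConst hX, IsSeparated.valuativeCriterion X.hom⟩

end Groth.Agent.GalTw
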