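import Groth.Agent.GalTw.Basic
import Groth.Agent.GalTw.Valuative
import Groth.Agent.Hensel.QuasiFiniteSplit
import Mathlib.RingTheory.Localization.Away.Lemmas
import Mathlib.AlgebraicGeometry.Morphisms.UniversallyOpen

/-! Twisted constant schemes over henselian local rings. -/

universe u

open CategoryTheory Limits AlgebraicGeometry

namespace Groth.Agent.GalTw

set_option backward.isDefEq.respectTransparency.types false

variable {R : Type u} [CommRing R] [HenselianLocalRing R]
variable {Y : Scheme.{u}}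

/-- The local scheme at a closed point of an etale scheme over a henselian local ring is clopen and finite. -/
theorem fromSpecStalk_clopen_finite (π : Y ⟶ Spec (CommRingCat.of R)) [Etale π] [IsSeparated π] (x : Y)
    (hx : π x = IsLocalRing.closedPoint R) :
    IsOpenImmersion (Y.fromSpecStalk x) ∧ IsClosedImmersion (Y.fromSpecStalk x) ∧
      IsFinite (Y.fromSpecStalk x ≫ π) ∧ Etale (Y.fromSpecStalk x ≫ π) ∧
      Surjective (Y.fromSpecStalk x ≫ π) := by
  obtain ⟨A, hA, hxA, -⟩ := exists_isAffineOpen_mem_and_subset (U := ⊤) (x := x) (by trivial)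
  let C := Γ(Y, A)
  obtain ⟨φ, hφ⟩ : ∃ φ, Spec.map φ = hA.fromSpec ≫ π := ⟨Spec.preimage _, Spec.map_preimage _⟩
  let _ : Algebra R C := φ.hom.toAlgebra
  have : Etale (Spec.map φ) := hφ ▸ (inferInstanceAs (Etale (hA.fromSpec ≫ π)))
  have : Algebra.Etale R C := by
    rw [← RingHom.etale_algebraMap]
    exact (HasRingHomProperty.Spec_iff (P := @Etale)).1 ‹Etale (Spec.map φ)›
  let q := hA.primeIdealOf ⟨x, hxA⟩
  have hq : q.asIdeal.comap (algebraMap R C) = IsLocalRing.maximalIdeal R := by
    have h : (Spec.map φ) q = IsLocalRing.closedPoint R := by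
      rw [hφ, Scheme.Hom.comp_apply, hA.fromSpec_primeIdealOf ⟨x, hxA⟩]
      exact hx
    exact congrArg PrimeSpectrum.asIdeal h
  have : q.asIdeal.LiesOver (IsLocalRing.maximalIdeal R) := ⟨hq.symm⟩
  have : Algebra.QuasiFiniteAt R q.asIdeal := inferInstance
  obtain ⟨e, he, heq, hfinL, hloc⟩ := Groth.Agent.Hensel.exists_idempotent_of_quasiFiniteAt R q.asIdeal
  let O := Y.presheaf.stalk x
  let _ : Algebra C O := (Y.presheaf.germ A x hxA).hom.toAlgebra
  have : IsLocalization.AtPrime O q.asIdeal := hA.isLocalization_stalk ⟨x, hxA⟩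
  let L := C ⧸ Ideal.span {1 - e}
  have hq1 : 1 - e ∈ q.asIdeal := ((q.isPrime.mem_or_mem (show e * (1 - e) ∈ q.asIdeal by
    rw [mul_sub, mul_one, he.eq, sub_self]; exact zero_mem _)).resolve_left heq)
  have : IsLocalization.Away e L := IsLocalization.away_of_isIdempotentElem he Ideal.mk_ker Ideal.Quotient.mk_surjective
  have : IsLocalization.AtPrime L q.asIdeal := by
    constructor
    refine ⟨fun s => ?_, fun z => ?_, fun {a b} h => ?_⟩
    · by_contra hu
      have hker : RingHom.ker (Ideal.Quotient.mk (Ideal.span {1 - e})) ≤ q.asIdeal := by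
        rw [Ideal.mk_ker, Ideal.span_le, Set.singleton_subset_iff]; exact hq1
      let qb : Ideal L := q.asIdeal.map (Ideal.Quotient.mk _)
      have hqb : qb.IsPrime := Ideal.map_isPrime_of_surjective Ideal.Quotient.mk_surjective hker
      have hcomap : qb.comap (Ideal.Quotient.mk _) = q.asIdeal := by
        rw [Ideal.comap_map_of_surjective _ Ideal.Quotient.mk_surjective, ← RingHom.ker_eq_comap_bot,
          sup_eq_left.mpr hker]
      have hqbmax : qb.IsMaximal := by
        refine Ideal.isMaximal_of_isIntegral_of_isMaximal_comap (R := R) qb ?_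
        rw [show algebraMap R L = (Ideal.Quotient.mk _).comp (algebraMap R C) from rfl, ← Ideal.comap_comap,
          hcomap, hq]
        infer_instance
      exact s.2 (hcomap.le (show Ideal.Quotient.mk _ s.1 ∈ qb from (IsLocalRing.eq_maximalIdeal hqbmax).ge hu))
    · obtain ⟨b, rfl⟩ := Ideal.Quotient.mk_surjective z
      exact ⟨(b, 1), by simp; rfl⟩
    · rw [Ideal.Quotient.algebraMap_eq, Ideal.Quotient.eq, Ideal.mem_span_singleton'] at h
      obtain ⟨c, hc⟩ := h
      refine ⟨⟨e, heq⟩, ?_⟩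
      show e * a = e * b
      linear_combination (-e) * hc - c * he.eq
  let eqv : L ≃ₐ[C] O := IsLocalization.algEquiv q.asIdeal.primeCompl L O
  have : IsLocalization.Away e O := IsLocalization.isLocalization_of_algEquiv _ eqv
  let _ : Algebra R O := ((algebraMap C O).comp (algebraMap R C)).toAlgebra
  have : IsScalarTower R C O := .of_algebraMap_eq' rfl
  have hfinO : Module.Finite R O := Module.Finite.equiv (eqv.restrictScalars R).toLinearEquiv
  have hfac : Y.fromSpecStalk x = Spec.map (Y.presheaf.germ A x hxA) ≫ hA.fromSpec := by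
    rw [← hA.fromSpecStalk_eq_fromSpecStalk hxA]; rfl
  have hopenI : IsOpenImmersion (Y.fromSpecStalk x) := by
    have : IsOpenImmersion (Spec.map (CommRingCat.ofHom (algebraMap C O))) := IsOpenImmersion.of_isLocalization e
    rw [hfac]
    exact inferInstanceAs (IsOpenImmersion (Spec.map (CommRingCat.ofHom (algebraMap C O)) ≫ hA.fromSpec))
  have hfinite : IsFinite (Y.fromSpecStalk x ≫ π) := by
    have hπ : Y.fromSpecStalk x ≫ π = Spec.map (CommRingCat.ofHom (algebraMap R O)) := by
      rw [hfac, Category.assoc, ← hφ, ← Spec.map_comp]; rfl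
    rw [hπ, IsFinite.SpecMap_iff]
    exact RingHom.finite_algebraMap.2 hfinO
  have : IsFinite (Y.fromSpecStalk x) := IsFinite.of_comp (Y.fromSpecStalk x) π
  have hclosedI : IsClosedImmersion (Y.fromSpecStalk x) :=
    IsClosedImmersion.of_isPreimmersion _ (Y.fromSpecStalk x).isClosedMap.isClosed_range
  have hetale : Etale (Y.fromSpecStalk x ≫ π) := inferInstance
  refine ⟨hopenI, hclosedI, hfinite, hetale, ⟨fun p => ?_⟩⟩
  have h0 : (Y.fromSpecStalk x ≫ π) (IsLocalRing.closedPoint O) = IsLocalRing.closedPoint R := by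
    rw [Scheme.Hom.comp_apply, Scheme.fromSpecStalk_closedPoint, hx]
  obtain ⟨y, -, hy⟩ := Flat.generalizingMap (Y.fromSpecStalk x ≫ π)
    (show p ⤳ (Y.fromSpecStalk x ≫ π) (IsLocalRing.closedPoint O) from by
      rw [h0]; exact IsLocalRing.specializes_closedPoint p)
  exact ⟨y, hy⟩

end Groth.Agent.GalTw

namespace Groth.Agent.GalTw

set_option backward.isDefEq.respectTransparency.types false

variable {R : Type u} [CommRing R] [HenselianLocalRing R]

/-- Every point of a twisted constant scheme over a local ring specializes to a point over the closed point. -/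
theorem exists_specializes_closedFibre {X : Over (Spec (CommRingCat.of R))}
    (hX : TwC.IsTwConst TwC.Topology.etale X) (y : X.left) :
    ∃ x : X.left, X.hom x = IsLocalRing.closedPoint R ∧ y ⤳ x := by
  obtain ⟨S', f, I, e, hf, ⟨s', hs'⟩, he⟩ := exists_chart hX (IsLocalRing.closedPoint R)
  obtain ⟨s₁, hs₁, hfs₁⟩ := Flat.generalizingMap f
    (show X.hom y ⤳ f s' from hs' ▸ IsLocalRing.specializes_closedPoint (X.hom y))
  obtain ⟨z, hz₁, hz₂⟩ := Scheme.Pullback.exists_preimage_pullback (f := X.hom) (g := f) y s₁ hfs₁.symm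
  obtain ⟨i, w, hw⟩ := exists_eq_ι (e.hom z)
  have key : ∀ v : S', (pullback.snd X.hom f) (e.inv (Sigma.ι (fun _ : I => S') i v)) = v := fun v => by
    rw [← Scheme.Hom.comp_apply, ← Scheme.Hom.comp_apply, (Iso.inv_comp_eq e).2 he.symm, ι_cstHom]
    rfl
  have hz : e.inv (Sigma.ι (fun _ : I => S') i w) = z := by
    rw [hw, ← Scheme.Hom.comp_apply, e.hom_inv_id]
    rfl
  have hws : w = s₁ := by rw [← key w, hz, hz₂]
  subst hws
  let φ := Sigma.ι (fun _ : I => S') i ≫ e.inv ≫ pullback.fst X.hom f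
  refine ⟨φ s', ?_, ?_⟩
  · show X.hom ((pullback.fst X.hom f) (e.inv (Sigma.ι (fun _ : I => S') i s'))) = _
    rw [← Scheme.Hom.comp_apply, pullback.condition, Scheme.Hom.comp_apply, key, hs']
  · have h := hs₁.map φ.continuous
    have hy : φ w = y := by
      show (pullback.fst X.hom f) (e.inv (Sigma.ι (fun _ : I => S') i w)) = y
      rw [hz, hz₁]
    rwa [← hy]

theorem structure_of_henselian {X : Over (Spec (CommRingCat.of R))} (hX : TwC.IsTwConst TwC.Topology.etale X)
    (y : X.left) : ∃! x : X.left, X.hom x = IsLocalRing.closedPoint R ∧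
      y ∈ Set.range (X.left.fromSpecStalk x) := by
  have := isSeparated_of_isTwConst hX
  have := etale_of_isTwConst hX
  obtain ⟨x, hx, hyx⟩ := exists_specializes_closedFibre hX y
  refine ⟨x, ⟨hx, by rw [Scheme.range_fromSpecStalk]; exact hyx⟩, ?_⟩
  rintro x' ⟨hx', hyx'⟩
  obtain ⟨ho', hc', hf', -, -⟩ := fromSpecStalk_clopen_finite X.hom x' hx'
  have hclosed : IsClosed (Set.range (X.left.fromSpecStalk x')) := (X.left.fromSpecStalk x').isClosedEmbedding.isClosed_range
  have hxmem : x ∈ Set.range (X.left.fromSpecStalk x') := hyx.mem_closed hclosed hyx'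
  obtain ⟨p, hp⟩ := hxmem
  obtain ⟨φ, hφ⟩ : ∃ φ, Spec.map φ = X.left.fromSpecStalk x' ≫ X.hom := ⟨Spec.preimage _, Spec.map_preimage _⟩
  let _ : Algebra R (X.left.presheaf.stalk x') := φ.hom.toAlgebra
  have : IsFinite (Spec.map φ) := hφ ▸ hf'
  have : Module.Finite R (X.left.presheaf.stalk x') := RingHom.finite_algebraMap.1 ((IsFinite.SpecMap_iff _).1 ‹IsFinite (Spec.map φ)›)
  have hmax : p.asIdeal.IsMaximal := by
    refine Ideal.isMaximal_of_isIntegral_of_isMaximal_comap (R := R) p.asIdeal ?_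
    have h : (Spec.map φ) p = IsLocalRing.closedPoint R := by rw [hφ, Scheme.Hom.comp_apply, hp, hx]
    rw [show p.asIdeal.comap (algebraMap R _) = IsLocalRing.maximalIdeal R from congrArg PrimeSpectrum.asIdeal h]
    infer_instance
  have : p = IsLocalRing.closedPoint _ := PrimeSpectrum.ext (IsLocalRing.eq_maximalIdeal hmax)
  rw [this, Scheme.fromSpecStalk_closedPoint] at hp
  exact hp

theorem section_unique {X : Over (Spec (CommRingCat.of R))} (hX : TwC.IsTwConst TwC.Topology.etale X)
    (σ₁ σ₂ : Spec (CommRingCat.of R) ⟶ X.left) (h₁ : σ₁ ≫ X.hom = 𝟙 _) (h₂ : σ₂ ≫ X.hom = 𝟙 _)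
    (h : Spec.map (CommRingCat.ofHom (IsLocalRing.residue R)) ≫ σ₁ = Spec.map (CommRingCat.ofHom (IsLocalRing.residue R)) ≫ σ₂) :
    σ₁ = σ₂ := by
  have := isSeparated_of_isTwConst hX
  have := etale_of_isTwConst hX
  have : PreconnectedSpace (Spec (CommRingCat.of R)) := ⟨isPreconnected_of_forall (IsLocalRing.closedPoint R : PrimeSpectrum R) fun p _ =>
    ⟨closure {(p : PrimeSpectrum R)}, Set.subset_univ _, specializes_iff_mem_closure.1 (IsLocalRing.specializes_closedPoint p),
      subset_closure rfl, isPreconnected_singleton.closure⟩⟩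
  exact eq_of_agree σ₁ σ₂ (h₁.trans h₂.symm) _ h

theorem section_exists {X : Over (Spec (CommRingCat.of R))} (hX : TwC.IsTwConst TwC.Topology.etale X)
    (τ : Spec (CommRingCat.of (IsLocalRing.ResidueField R)) ⟶ X.left)
    (hτ : τ ≫ X.hom = Spec.map (CommRingCat.ofHom (IsLocalRing.residue R))) :
    ∃ σ : Spec (CommRingCat.of R) ⟶ X.left,
      σ ≫ X.hom = 𝟙 _ ∧ Spec.map (CommRingCat.ofHom (IsLocalRing.residue R)) ≫ σ = τ := by
  have := etale_of_isTwConst hX
  obtain ⟨A, hA, hxA, -⟩ := exists_isAffineOpen_mem_and_subset (U := ⊤)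
    (x := τ (IsLocalRing.closedPoint (IsLocalRing.ResidueField R))) (by trivial)
  let C := Γ(X.left, A)
  obtain ⟨φ, hφ⟩ : ∃ φ, Spec.map φ = hA.fromSpec ≫ X.hom := ⟨Spec.preimage _, Spec.map_preimage _⟩
  let _ : Algebra R C := φ.hom.toAlgebra
  have : Etale (Spec.map φ) := hφ ▸ (inferInstanceAs (Etale (hA.fromSpec ≫ X.hom)))
  have : Algebra.Etale R C := by
    rw [← RingHom.etale_algebraMap]
    exact (HasRingHomProperty.Spec_iff (P := @Etale)).1 ‹Etale (Spec.map φ)›
  let τ' : Spec (CommRingCat.of (IsLocalRing.ResidueField R)) ⟶ Spec C := IsOpenImmersion.lift hA.fromSpec τ (by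
    rintro _ ⟨p, rfl⟩
    rw [IsAffineOpen.range_fromSpec, Subsingleton.elim p (IsLocalRing.closedPoint (IsLocalRing.ResidueField R))]
    exact hxA)
  obtain ⟨t, ht⟩ : ∃ t, Spec.map t = τ' := ⟨Spec.preimage _, Spec.map_preimage _⟩
  have htφ : φ ≫ t = CommRingCat.ofHom (IsLocalRing.residue R) := by
    apply Spec.map_injective
    rw [Spec.map_comp, ht, hφ, ← Category.assoc, IsOpenImmersion.lift_fac, hτ]
  let tA : C →ₐ[R] R ⧸ IsLocalRing.maximalIdeal R :=
    { t.hom with commutes' := fun r => congrArg (fun g => g.hom r) htφ }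
  obtain ⟨g, hg, -⟩ := Groth.Agent.Hensel.existsUnique_etale_lift_of_algebra (IsLocalRing.maximalIdeal R) tA
  refine ⟨Spec.map (CommRingCat.ofHom g.toRingHom) ≫ hA.fromSpec, ?_, ?_⟩
  · rw [Category.assoc, ← hφ, ← Spec.map_comp, ← Spec.map_id]
    congr 1
    ext r
    exact g.commutes r
  · refine Eq.trans ?_ ((congrArg (· ≫ hA.fromSpec) ht).trans (IsOpenImmersion.lift_fac hA.fromSpec τ _))
    rw [← Category.assoc, ← Spec.map_comp]
    congr 2
    ext a
    exact congr($hg a)

end Groth.Agent.GalTw
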