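import Groth.Agent.GalTw.Basic
import Groth.Agent.UnibEtale.Chart
import Groth.Agent.UnibEtale.Comp
import Groth.Agent.GrpSchLib.TwConstClosed
import Mathlib.AlgebraicGeometry.Morphisms.UniversallyOpen
import Mathlib.AlgebraicGeometry.Morphisms.QuasiFinite

/-! Twisted constant schemes over irreducible geometrically unibranch bases. -/

universe u

open CategoryTheory Limits AlgebraicGeometry

namespace Groth.Agent.GalTw

set_option backward.isDefEq.respectTransparency.types false

variable {S : Scheme.{u}} [IrreducibleSpace S]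

theorem nilradical_isPrime_of_etale {Y : Scheme.{u}} (p : Y ⟶ S) [Etale p]
    (hS : ∀ s : S, CAlg2.IsGeomUnibranch (S.presheaf.stalk s)) (y : Y) :
    (nilradical (Y.presheaf.stalk y)).IsPrime := by
  have h := (UnibEtale.stalk_of_etale p y ⊤ trivial (hS (p y))).1.1.1
  exact (Ideal.Quotient.isDomain_iff_prime _).1 h

theorem components_of_etale {Y : Scheme.{u}} (p : Y ⟶ S) [Etale p]
    (hS : ∀ s : S, CAlg2.IsGeomUnibranch (S.presheaf.stalk s)) :
    (∀ y : Y, ∃! Z, Z ∈ irreducibleComponents ↥Y ∧ y ∈ Z) ∧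
    (∀ Z ∈ irreducibleComponents ↥Y, IsOpen Z ∧ ∃! y : Y, y ∈ Z ∧ p.base y = genericPoint S) := by
  have := UnibEtale.locallyQuasiFinite_of_formallyUnramified p
  exact UnibEtale.components p (nilradical_isPrime_of_etale p hS)

variable {X : Over S}

/-- The closure of a point over the generic point is the component through it. -/
theorem closure_generic_spec [Etale X.hom] (hS : ∀ s : S, CAlg2.IsGeomUnibranch (S.presheaf.stalk s))
    (l : X.left) (hl : X.hom l = genericPoint S) :
    closure ({l} : Set X.left) ∈ irreducibleComponents ↥X.left ∧ IsOpen (closure ({l} : Set X.left)) ∧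
      (∀ l' ∈ closure ({l} : Set X.left), X.hom l' = genericPoint S → l' = l) := by
  have := UnibEtale.locallyQuasiFinite_of_formallyUnramified X.hom
  obtain ⟨-, h2⟩ := components_of_etale X.hom hS
  have hZ := irreducibleComponent_mem_irreducibleComponents l
  obtain ⟨hopen, x, -, huniq⟩ := h2 _ hZ
  have hg := hZ.1.isGenericPoint_genericPoint (isClosed_of_mem_irreducibleComponents _ hZ)
  have hgl := (huniq _ ⟨hg.mem, UnibEtale.map_generic X.hom hZ hg⟩).trans (huniq l ⟨mem_irreducibleComponent, hl⟩).symm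
  have heq : closure ({l} : Set X.left) = irreducibleComponent l :=
    (congrArg (fun a => closure ({a} : Set X.left)) hgl.symm).trans hg.def
  rw [heq]
  exact ⟨hZ, hopen, fun l' h1 h2 => (huniq l' ⟨h1, h2⟩).trans (huniq l ⟨mem_irreducibleComponent, hl⟩).symm⟩

theorem existsUnique_closure [Etale X.hom] (hS : ∀ s : S, CAlg2.IsGeomUnibranch (S.presheaf.stalk s))
    (x : X.left) : ∃! l : X.left, X.hom.base l = genericPoint S ∧ x ∈ closure ({l} : Set X.left) := by
  have := UnibEtale.locallyQuasiFinite_of_formallyUnramified X.hom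
  obtain ⟨h1, -⟩ := components_of_etale X.hom hS
  obtain ⟨Z, ⟨hZ, hxZ⟩, huniq⟩ := h1 x
  have hg := hZ.1.isGenericPoint_genericPoint (isClosed_of_mem_irreducibleComponents _ hZ)
  refine ⟨_, ⟨UnibEtale.map_generic X.hom hZ hg, hg.def.symm ▸ hxZ⟩, ?_⟩
  rintro l' ⟨hl', hxl'⟩
  obtain ⟨hZ', -, -⟩ := closure_generic_spec hS l' hl'
  exact (show IsGenericPoint l' Z from huniq _ ⟨hZ', hxl'⟩).eq hg

theorem finite_fibre_fst {A W : Scheme.{u}} (g₀ : A ⟶ W) (w : W ⟶ S) [IsOpenImmersion w] [QuasiCompact g₀]
    [Etale g₀] (l : X.left) : ((pullback.fst X.hom (g₀ ≫ w)) ⁻¹' {l}).Finite := by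
  let f1 := pullback.fst (pullback.snd X.hom w) g₀
  have : Etale f1 := inferInstance
  have : LocallyQuasiFinite f1 := UnibEtale.locallyQuasiFinite_of_formallyUnramified f1
  have h : ((f1 ≫ pullback.fst X.hom w) ⁻¹' {l}).Finite := by
    refine Set.Finite.subset (Set.Finite.preimage' (f := f1) (s := (pullback.fst X.hom w) ⁻¹' {l})
      ((Set.finite_singleton l).preimage (pullback.fst X.hom w).isOpenEmbedding.injective.injOn)
      fun b _ => f1.finite_preimage_singleton b) ?_
    intro z hz
    exact hz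
  let e := pullbackLeftPullbackSndIso X.hom w g₀
  refine (h.preimage (f := e.inv) (e.inv.homeomorph.injective.injOn)).subset ?_
  intro z hz
  show (f1 ≫ pullback.fst X.hom w) (e.inv z) = l
  rw [← Scheme.Hom.comp_apply, pullbackLeftPullbackSndIso_inv_fst]
  exact hz

/-- Local structure: near every point of the base, the component of `l` is covered by finitely many local sections. -/
theorem isCompact_inter (hX : TwC.IsTwConst TwC.Topology.etale X)
    (hS : ∀ s : S, CAlg2.IsGeomUnibranch (S.presheaf.stalk s))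
    (l : X.left) (hl : X.hom l = genericPoint S) (s : S) :
    ∃ W : S.Opens, IsAffineOpen W ∧ s ∈ W ∧
      IsCompact (closure ({l} : Set X.left) ∩ X.hom ⁻¹' (W : Set S)) := by
  have := etale_of_isTwConst hX
  obtain ⟨hZc, hZo, hZu⟩ := closure_generic_spec hS l hl
  obtain ⟨S', f, I, e, hf, ⟨s', hs'⟩, he⟩ := exists_chart hX s
  obtain ⟨Y₀, ⟨hY₀, hsY₀⟩, -⟩ := (components_of_etale f hS).1 s'
  have hY₀o := ((components_of_etale f hS).2 Y₀ hY₀).1
  obtain ⟨W₀, hW₀, hsW₀, -⟩ := exists_isAffineOpen_mem_and_subset (U := ⊤) (x := s) (by trivial)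
  obtain ⟨A, hA, hsA, hAW⟩ := exists_isAffineOpen_mem_and_subset (U := f ⁻¹ᵁ W₀ ⊓ ⟨Y₀, hY₀o⟩) (x := s')
    ⟨by show f s' ∈ W₀; rw [hs']; exact hsW₀, hsY₀⟩
  have hAW₀ : A ≤ f ⁻¹ᵁ W₀ := fun z hz => (hAW hz).1
  let g₀ : (A : Scheme.{u}) ⟶ W₀ := f.resLE W₀ A hAW₀
  let g := g₀ ≫ W₀.ι
  have hg : g = A.ι ≫ f := Scheme.Hom.resLE_comp_ι f hAW₀
  have : IsAffine (A : Scheme.{u}) := hA
  have : IsAffine (W₀ : Scheme.{u}) := hW₀
  have : Etale g := by rw [hg]; infer_instance
  have : Etale g₀ := Etale.of_comp g₀ W₀.ι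
  have : IrreducibleSpace (A : Scheme.{u}) := by
    have hpre : IsPreirreducible (A : Set S') := hY₀.1.2.open_subset A.2 fun z hz => (hAW hz).2
    exact { toPreirreducibleSpace := Subtype.preirreducibleSpace hpre, toNonempty := ⟨⟨s', hsA⟩⟩ }
  let η' := genericPoint (A : Scheme.{u})
  have hη' : g η' = genericPoint S := by
    obtain ⟨ξ, -, hξ⟩ := Flat.generalizingMap g (genericPoint_specializes (g η'))
    have h1 : g η' ⤳ genericPoint S := hξ ▸ (genericPoint_specializes ξ).map g.continuous
    exact (h1.antisymm (genericPoint_specializes _)).eq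
  -- the local sections
  let φ : I → ((A : Scheme.{u}) ⟶ X.left) := fun i => A.ι ≫ Sigma.ι (fun _ : I => S') i ≫ e.inv ≫ pullback.fst X.hom f
  have hι : ∀ i, Sigma.ι (fun _ : I => S') i ≫ e.inv ≫ pullback.snd X.hom f = 𝟙 S' := fun i => by
    rw [(Iso.inv_comp_eq e).2 he.symm, ι_cstHom]
  have hφ : ∀ i, φ i ≫ X.hom = g := fun i => by
    show (A.ι ≫ Sigma.ι (fun _ : I => S') i ≫ e.inv ≫ pullback.fst X.hom f) ≫ X.hom = g
    rw [hg]
    simp only [Category.assoc, pullback.condition]
    rw [reassoc_of% (hι i)]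
  let J : Set I := {i | φ i η' = l}
  have hJ : J.Finite := by
    let σ : I → (pullback X.hom g : Scheme.{u}) := fun i =>
      (pullback.lift (φ i) (𝟙 _) (by rw [hφ, Category.id_comp]) : (A : Scheme.{u}) ⟶ pullback X.hom g) η'
    let r : pullback X.hom g ⟶ pullback X.hom f :=
      pullback.lift (pullback.fst _ _) (pullback.snd _ _ ≫ A.ι) (by rw [pullback.condition, hg, Category.assoc])
    have hσ : ∀ i, r (σ i) = e.inv (Sigma.ι (fun _ : I => S') i (A.ι η')) := fun i => by
      show ((pullback.lift (φ i) (𝟙 _) _ : (A : Scheme.{u}) ⟶ pullback X.hom g) ≫ r) η' = (A.ι ≫ Sigma.ι (fun _ : I => S') i ≫ e.inv) η'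
      refine congrArg (fun m : (A : Scheme.{u}) ⟶ pullback X.hom f => m η') ?_
      apply pullback.hom_ext
      · simp only [r, φ, Category.assoc]
        erw [pullback.lift_fst, pullback.lift_fst]
      · simp only [r, Category.assoc, pullback.lift_snd, pullback.lift_snd_assoc, Category.id_comp]
        rw [hι, Category.comp_id]
    refine Set.Finite.of_finite_image (f := σ) ?_ ?_
    · refine (finite_fibre_fst g₀ W₀.ι l).subset ?_
      rintro _ ⟨i, hi, rfl⟩
      show ((pullback.lift (φ i) (𝟙 _) _ : (A : Scheme.{u}) ⟶ pullback X.hom g) ≫ pullback.fst X.hom g) η' = l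
      rw [pullback.lift_fst]
      exact hi
    · intro i _ j _ hij
      have h := congrArg r hij
      rw [hσ, hσ] at h
      exact ι_inj (e.inv.homeomorph.injective h)
  let O : S.Opens := ⟨f.base '' (A : Set S'), f.isOpenMap _ A.2⟩
  obtain ⟨W, hW, hsW, hWO⟩ := exists_isAffineOpen_mem_and_subset (U := O ⊓ W₀) (x := s) ⟨⟨s', hsA, hs'⟩, hsW₀⟩
  refine ⟨W, hW, hsW, ?_⟩
  have hK : IsCompact (g ⁻¹' (W : Set S)) := by
    have hWW : IsAffineOpen (W₀.ι ⁻¹ᵁ W) := by
      rw [← W₀.ι.isAffineOpen_iff_of_isOpenImmersion, Scheme.Hom.image_preimage_eq_opensRange_inf, Scheme.Opens.opensRange_ι,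
        inf_eq_right.2 fun z hz => (hWO hz).2]
      exact hW
    exact g₀.isCompact_preimage hWW.isCompact
  have key : closure ({l} : Set X.left) ∩ X.hom ⁻¹' (W : Set S) = ⋃ i ∈ J, φ i '' (g ⁻¹' (W : Set S)) := by
    ext z
    refine ⟨?_, ?_⟩
    · rintro ⟨hz, hzW⟩
      obtain ⟨a, ha, hfa⟩ : X.hom z ∈ f.base '' (A : Set S') := (hWO hzW).1
      obtain ⟨p, hp₁, hp₂⟩ := Scheme.Pullback.exists_preimage_pullback (f := X.hom) (g := f) z a hfa.symm
      obtain ⟨i, w, hw⟩ := exists_eq_ι (e.hom p)
      have hp : e.inv (Sigma.ι (fun _ : I => S') i w) = p := by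
        rw [hw, ← Scheme.Hom.comp_apply, e.hom_inv_id]
        rfl
      have hwa : w = a := by
        rw [← hp₂, ← hp]
        show w = (Sigma.ι (fun _ : I => S') i ≫ e.inv ≫ pullback.snd X.hom f) w
        rw [hι]
        rfl
      have hφa : φ i ⟨a, ha⟩ = z := by
        show (pullback.fst X.hom f) (e.inv (Sigma.ι (fun _ : I => S') i a)) = z
        rw [← hwa, hp, hp₁]
      have h1 : φ i η' ∈ closure ({l} : Set X.left) :=
        ((genericPoint_specializes (α := (A : Scheme.{u})) ⟨a, ha⟩).map (φ i).continuous).mem_open hZo (hφa.symm ▸ hz)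
      have h2 : φ i η' = l := hZu _ h1 (by rw [← Scheme.Hom.comp_apply, hφ, hη'])
      refine Set.mem_biUnion (x := i) h2 ⟨⟨a, ha⟩, ?_, hφa⟩
      show g ⟨a, ha⟩ ∈ (W : Set S)
      rw [← hφ i, Scheme.Hom.comp_apply, hφa]
      exact hzW
    · simp only [Set.mem_iUnion₂]
      rintro ⟨i, hi, a, ha, rfl⟩
      refine ⟨?_, ?_⟩
      · rw [← (show φ i η' = l from hi)]
        exact specializes_iff_mem_closure.1 ((genericPoint_specializes a).map (φ i).continuous)
      · show X.hom (φ i a) ∈ (W : Set S)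
        rw [← Scheme.Hom.comp_apply, hφ]
        exact ha
  rw [key]
  exact hJ.isCompact_biUnion fun i _ => hK.image (φ i).continuous

end Groth.Agent.GalTw

namespace Groth.Agent.GalTw

set_option backward.isDefEq.respectTransparency.types false

variable {S : Scheme.{u}} [IrreducibleSpace S] {X : Over S}

/-- The component of a point over the generic point is finite etale surjective. -/
theorem component_finite (hX : TwC.IsTwConst TwC.Topology.etale X)
    (hS : ∀ s : S, CAlg2.IsGeomUnibranch (S.presheaf.stalk s))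
    (l : X.left) (hl : X.hom l = genericPoint S) :
    ∃ U : X.left.Opens, (U : Set X.left) = closure ({l} : Set X.left) ∧ IsClosed (U : Set X.left) ∧
      IsFinite (U.ι ≫ X.hom) ∧ Etale (U.ι ≫ X.hom) ∧ Surjective (U.ι ≫ X.hom) := by
  have := etale_of_isTwConst hX
  obtain ⟨hZc, hZo, -⟩ := closure_generic_spec hS l hl
  let U : X.left.Opens := ⟨closure {l}, hZo⟩
  have hUc : IsClosed (U : Set X.left) := isClosed_closure
  have : IsClosedImmersion U.ι :=
    IsClosedImmersion.of_isPreimmersion _ (by rw [Scheme.Opens.range_ι]; exact hUc)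
  have hqc : QuasiCompact (U.ι ≫ X.hom) := by
    choose W hW hsW hK using isCompact_inter hX hS l hl
    rw [HasAffineProperty.iff_of_iSup_eq_top (P := @QuasiCompact) (fun s => (⟨W s, hW s⟩ : S.affineOpens))
      (top_unique fun s _ => TopologicalSpace.Opens.mem_iSup.2 ⟨s, hsW s⟩)]
    intro s
    refine isCompact_iff_compactSpace.1 ?_
    rw [U.ι.isOpenEmbedding.isInducing.isCompact_iff]
    convert hK s using 1
    ext z
    constructor
    · rintro ⟨w, hw, rfl⟩
      exact ⟨w.2, hw⟩
    · rintro ⟨hz, hzW⟩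
      exact ⟨⟨z, hz⟩, hzW, rfl⟩
  have hfin : IsFinite (U.ι ≫ X.hom) := by
    have := EtFound.fpqc_isFinite.{u}
    refine of_etale_locally (P := @IsFinite) _ fun s => ?_
    obtain ⟨S', f, hf, hs, I, ⟨e⟩⟩ := hX s
    exact ⟨S', f, hf, hs, GrpSchLib.TwConstClosed.isFinite_snd X U.ι f e⟩
  refine ⟨U, rfl, hUc, hfin, inferInstance, ⟨fun s => ?_⟩⟩
  have hcl : IsClosed (Set.range (U.ι ≫ X.hom)) := (U.ι ≫ X.hom).isClosedMap.isClosed_range
  have hη : genericPoint S ∈ Set.range (U.ι ≫ X.hom) := ⟨⟨l, subset_closure rfl⟩, hl⟩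
  exact (genericPoint_specializes s).mem_closed hcl hη

theorem section_unique_generic (hX : TwC.IsTwConst TwC.Topology.etale X) (σ₁ σ₂ : S ⟶ X.left)
    (h₁ : σ₁ ≫ X.hom = 𝟙 S) (h₂ : σ₂ ≫ X.hom = 𝟙 S)
    (h : S.fromSpecResidueField (genericPoint S) ≫ σ₁ = S.fromSpecResidueField (genericPoint S) ≫ σ₂) :
    σ₁ = σ₂ := by
  have := isSeparated_of_isTwConst hX
  have := etale_of_isTwConst hX
  exact eq_of_agree σ₁ σ₂ (h₁.trans h₂.symm) _ h

/-- A component with a rational point over the generic point maps isomorphically to the base. -/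
theorem isIso_of_unique_generic {U : Scheme.{u}} (p : U ⟶ S) [IsFinite p] [Etale p] [Surjective p]
    (hu : ∀ a b : U, p a = genericPoint S → p b = genericPoint S → a = b)
    (τ : Spec (S.residueField (genericPoint S)) ⟶ U) (hτ : τ ≫ p = S.fromSpecResidueField (genericPoint S)) :
    IsIso p := by
  have : Surjective (pullback.diagonal p) := by
    refine ⟨fun z => ?_⟩
    have hcl : IsClopen (Set.range (pullback.diagonal p)) :=
      ⟨(pullback.diagonal p).isClosedEmbedding.isClosed_range, (pullback.diagonal p).isOpenEmbedding.isOpen_range⟩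
    let q := pullback.fst p p ≫ p
    obtain ⟨z₀, hz₀, hqz₀⟩ := Flat.generalizingMap q (genericPoint_specializes (q z))
    -- points over the generic point lie on the diagonal
    let c := (pullback p p).fromSpecResidueField z₀
    let k := Spec.map (q.residueFieldMap z₀)
    have hk : c ≫ q = k ≫ S.fromSpecResidueField (q z₀) := (q.SpecMap_residueFieldMap_fromSpecResidueField z₀).symm
    obtain ⟨k', hk'⟩ : ∃ k' : Spec ((pullback p p).residueField z₀) ⟶ Spec (S.residueField (genericPoint S)),
        k' ≫ S.fromSpecResidueField (genericPoint S) = c ≫ q := by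
      have key : ∀ (s : S), s = genericPoint S → ∀ k : Spec ((pullback p p).residueField z₀) ⟶ Spec (S.residueField s),
          k ≫ S.fromSpecResidueField s = c ≫ q → ∃ k' : Spec ((pullback p p).residueField z₀) ⟶ Spec (S.residueField (genericPoint S)),
            k' ≫ S.fromSpecResidueField (genericPoint S) = c ≫ q := by
        rintro _ rfl k hk
        exact ⟨k, hk⟩
      exact key _ hqz₀ k hk.symm
    let u₀ := τ (IsLocalRing.closedPoint (S.residueField (genericPoint S)))
    have hu₀ : p u₀ = genericPoint S := by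
      rw [← Scheme.Hom.comp_apply, hτ]
      exact Scheme.fromSpecResidueField_apply _ _
    -- the residue field of `u₀` is that of the generic point
    obtain ⟨t, ht⟩ : ∃ t : Spec (S.residueField (genericPoint S)) ⟶ Spec (U.residueField u₀),
        t ≫ U.fromSpecResidueField u₀ = τ := ⟨_, Scheme.descResidueField_stalkClosedPointTo_fromSpecResidueField _ _ τ⟩
    have hiso : IsIso t := by
      obtain ⟨φ, rfl⟩ : ∃ φ, Spec.map φ = t := ⟨Spec.preimage t, Spec.map_preimage t⟩
      have hmaps : U.fromSpecResidueField u₀ ≫ p = Spec.map (p.residueFieldMap u₀) ≫ S.fromSpecResidueField (p u₀) :=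
        (p.SpecMap_residueFieldMap_fromSpecResidueField u₀).symm
      obtain ⟨ψ, hψ⟩ : ∃ ψ : S.residueField (genericPoint S) ⟶ U.residueField u₀,
          U.fromSpecResidueField u₀ ≫ p = Spec.map ψ ≫ S.fromSpecResidueField (genericPoint S) := by
        have key : ∀ (s : S), s = genericPoint S → ∀ ψ : S.residueField s ⟶ U.residueField u₀,
            U.fromSpecResidueField u₀ ≫ p = Spec.map ψ ≫ S.fromSpecResidueField s →
            ∃ ψ : S.residueField (genericPoint S) ⟶ U.residueField u₀,
              U.fromSpecResidueField u₀ ≫ p = Spec.map ψ ≫ S.fromSpecResidueField (genericPoint S) := by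
          rintro _ rfl ψ h
          exact ⟨ψ, h⟩
        exact key _ hu₀ _ hmaps
      have hid : ψ ≫ φ = 𝟙 _ := by
        apply Spec.map_injective
        rw [Spec.map_comp, Spec.map_id, ← cancel_mono (S.fromSpecResidueField (genericPoint S)), Category.assoc,
          ← hψ, ← Category.assoc, ht, hτ, Category.id_comp]
      have : IsIso φ := (ConcreteCategory.isIso_iff_bijective φ).2 ⟨φ.hom.injective, fun x =>
        ⟨ψ x, by rw [← CommRingCat.comp_apply, hid]; rfl⟩⟩
      infer_instance
    -- every field valued point over the generic point factors through `τ`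
    have hfac : ∀ (r : pullback p p ⟶ U), r ≫ p = q → c ≫ r = k' ≫ τ := fun r hr => by
      have hrz : r z₀ = u₀ := hu _ _ (by rw [← Scheme.Hom.comp_apply, hr]; exact hqz₀) hu₀
      obtain ⟨m, hm⟩ : ∃ m : Spec ((pullback p p).residueField z₀) ⟶ Spec (U.residueField u₀),
          m ≫ U.fromSpecResidueField u₀ = c ≫ r := by
        have key : ∀ (s : U), s = u₀ → ∀ k : Spec ((pullback p p).residueField z₀) ⟶ Spec (U.residueField s),
            k ≫ U.fromSpecResidueField s = c ≫ r → ∃ m : Spec ((pullback p p).residueField z₀) ⟶ Spec (U.residueField u₀),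
              m ≫ U.fromSpecResidueField u₀ = c ≫ r := by
          rintro _ rfl k hk
          exact ⟨k, hk⟩
        exact key _ hrz _ (r.SpecMap_residueFieldMap_fromSpecResidueField z₀)
      have h1 : (m ≫ inv t) ≫ τ = c ≫ r := by rw [Category.assoc, ← ht, IsIso.inv_hom_id_assoc, hm]
      have h2 : m ≫ inv t = k' := by
        rw [← cancel_mono (S.fromSpecResidueField (genericPoint S)), hk', ← hr, ← hτ, ← Category.assoc, h1, Category.assoc]
      rw [← h1, h2]
    have hc : c = (k' ≫ τ) ≫ pullback.diagonal p := by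
      apply pullback.hom_ext
      · rw [Category.assoc, pullback.diagonal_fst, Category.comp_id]
        exact hfac _ rfl
      · rw [Category.assoc, pullback.diagonal_snd, Category.comp_id]
        exact hfac _ pullback.condition.symm
    have hmem : z₀ ∈ Set.range (pullback.diagonal p) := by
      refine ⟨(k' ≫ τ) (IsLocalRing.closedPoint _), ?_⟩
      rw [← Scheme.Hom.comp_apply, ← hc]
      exact Scheme.fromSpecResidueField_apply _ _
    exact hz₀.mem_closed hcl.1 hmem
  have : IsIso (pullback.diagonal p) :=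
    isIso_of_isOpenImmersion_of_opensRange_eq_top _ (top_unique fun z _ => (pullback.diagonal p).surjective z)
  have : Mono p := (pullback.isIso_diagonal_iff p).1 this
  have : IsOpenImmersion p := IsOpenImmersion.of_flat_of_mono p
  exact isIso_of_isOpenImmersion_of_opensRange_eq_top _ (top_unique fun z _ => p.surjective z)

theorem section_exists_generic (hX : TwC.IsTwConst TwC.Topology.etale X)
    (hS : ∀ s : S, CAlg2.IsGeomUnibranch (S.presheaf.stalk s))
    (τ : Spec (S.residueField (genericPoint S)) ⟶ X.left)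
    (hτ : τ ≫ X.hom = S.fromSpecResidueField (genericPoint S)) :
    ∃ σ : S ⟶ X.left, σ ≫ X.hom = 𝟙 S ∧ S.fromSpecResidueField (genericPoint S) ≫ σ = τ := by
  have := etale_of_isTwConst hX
  let l := τ (IsLocalRing.closedPoint (S.residueField (genericPoint S)))
  have hl : X.hom l = genericPoint S := by
    rw [← Scheme.Hom.comp_apply, hτ]
    exact Scheme.fromSpecResidueField_apply _ _
  obtain ⟨U, hU, -, hfin, het, hsurj⟩ := component_finite hX hS l hl
  obtain ⟨-, -, hZu⟩ := closure_generic_spec hS l hl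
  let τ' : Spec (S.residueField (genericPoint S)) ⟶ U := IsOpenImmersion.lift U.ι τ (by
    rw [Scheme.Opens.range_ι, hU]
    rintro _ ⟨a, rfl⟩
    rw [Subsingleton.elim a (IsLocalRing.closedPoint (S.residueField (genericPoint S)))]
    exact subset_closure rfl)
  have hτ' : τ' ≫ (U.ι ≫ X.hom) = S.fromSpecResidueField (genericPoint S) := by
    rw [← Category.assoc, IsOpenImmersion.lift_fac, hτ]
  have : IsIso (U.ι ≫ X.hom) := isIso_of_unique_generic (U.ι ≫ X.hom) (fun a b ha hb => U.ι.isOpenEmbedding.injective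
    ((hZu _ (hU ▸ a.2) ha).trans (hZu _ (hU ▸ b.2) hb).symm)) τ' hτ'
  refine ⟨inv (U.ι ≫ X.hom) ≫ U.ι, by rw [Category.assoc, IsIso.inv_hom_id], ?_⟩
  rw [← hτ']
  simp only [Category.assoc, IsIso.hom_inv_id_assoc]
  exact IsOpenImmersion.lift_fac _ _ _

end Groth.Agent.GalTw
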